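import Cfsg.Agent.H50.RG.LStmts

/-!
# S5714, RG-L19 (helper621): `E Q` is generated by two opposite unipotent radicals
-/

set_option autoImplicit false

namespace Cfsg.Agent.H621.RG

open Module Cfsg.Agent.H847.Bs Cfsg.Agent.LieClassical.OrthCore QuadraticMap Cfsg.Agent.H883.Root
  Cfsg.Agent.H50.RG
open Cfsg.Agent.H440.Bs (perp mem_perp mem_perp')

variable {F V : Type*} [Field F] [AddCommGroup V] [Module F V] {Q : QuadraticForm F V}

theorem opp_symm {Φ : Frm F V} {A A' C : Submodule F V} (h : Opp Φ A A' C) : Opp Φ A' A C :=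
  ⟨h.ti', h.ti, h.dim.symm, h.disj.symm, by rw [sup_comm]; exact h.compl, h.perp_eq', h.perp_eq⟩

/-- `C` is orthogonal to `A` -/
theorem polar_AC {A A' C : Submodule F V} (h : Opp (frmQ Q) A A' C) {a c : V} (ha : a ∈ A) (hc : c ∈ C) :
    polar Q a c = 0 := by
  have h1 : c ∈ perp (frmQ Q) A := by rw [h.perp_eq]; exact Submodule.mem_sup_right hc
  rw [mem_perp'] at h1
  exact h1 a ha

/-- decomposition of a vector -/
theorem dec3 {A A' C : Submodule F V} (h : Opp (frmQ Q) A A' C) (v : V) :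
    ∃ a ∈ A, ∃ a' ∈ A', ∃ c ∈ C, v = a + a' + c := by
  have h1 : v ∈ (A ⊔ A') ⊔ C := by rw [h.compl.sup_eq_top]; trivial
  obtain ⟨w, hw, c, hc, rfl⟩ := Submodule.mem_sup.1 h1
  obtain ⟨a, ha, a', ha', rfl⟩ := Submodule.mem_sup.1 hw
  exact ⟨a, ha, a', ha', c, hc, rfl⟩

/-- the duality of `A` and `A'` -/
theorem exists_dual {A A' C : Submodule F V} (hN : (frmQ Q).Nd) (h : Opp (frmQ Q) A A' C) {a : V} (ha : a ∈ A)
    (ha0 : a ≠ 0) : ∃ a' ∈ A', polar Q a a' = 1 := by
  by_contra hcon
  push Not at hcon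
  apply ha0
  refine hN a fun y => ?_
  show polar Q a y = 0
  obtain ⟨x, hx, x', hx', c, hc, rfl⟩ := dec3 h y
  rw [polar_add_right, polar_add_right, polar_AC h ha hc, show polar Q a x = 0 from h.ti.1 a ha x hx, zero_add,
    add_zero]
  by_contra h0
  refine hcon ((polar Q a x')⁻¹ • x') (A'.smul_mem _ hx') ?_
  rw [polar_smul_right, smul_eq_mul, inv_mul_cancel₀ h0]

/-- `C` is nondegenerate -/
theorem exists_dualC {A A' C : Submodule F V} (hN : (frmQ Q).Nd) (h : Opp (frmQ Q) A A' C) {c : V} (hc : c ∈ C)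
    (hc0 : c ≠ 0) : ∃ c' ∈ C, polar Q c c' = 1 := by
  by_contra hcon
  push Not at hcon
  apply hc0
  refine hN c fun y => ?_
  show polar Q c y = 0
  obtain ⟨x, hx, x', hx', d, hd, rfl⟩ := dec3 h y
  have e1 : polar Q c x = 0 := by rw [polar_comm]; exact polar_AC h hx hc
  have e2 : polar Q c x' = 0 := by rw [polar_comm]; exact polar_AC (opp_symm h) hx' hc
  rw [polar_add_right, polar_add_right, e1, e2, zero_add, zero_add]
  by_contra h0
  refine hcon ((polar Q c d)⁻¹ • d) (C.smul_mem _ hd) ?_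
  rw [polar_smul_right, smul_eq_mul, inv_mul_cancel₀ h0]

/-- the Siegel elements in the radical -/
theorem has_rad {A A' C : Submodule F V} (h : Opp (frmQ Q) A A' C) {u w : V} (hu : u ∈ A) (hw : w ∈ A ⊔ C) :
    Has Q (E Q ⊓ RadG (frmQ Q) A) u w := by
  have hwp : w ∈ perp (frmQ Q) A := by rw [h.perp_eq]; exact hw
  have hQu : Q u = 0 := h.ti.2 u hu
  have hp : polar Q u w = 0 := (mem_perp' (frmQ Q)).1 hwp u hu
  have hup : u ∈ perp (frmQ Q) A := by rw [h.perp_eq]; exact Submodule.mem_sup_left hu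
  refine ⟨hQu, hp, siegel_mem_E hQu hp, ?_, ?_, ?_, ?_⟩
  · have hO := siegel_mem_O hQu hp
    exact ⟨fun x y => polar_map hO x y, fun x => hO x⟩
  · intro x
    rw [siegel_apply]
    have e : x + polar Q u x • w - polar Q w x • u - (Q w * polar Q u x) • u - x =
        polar Q u x • w - polar Q w x • u - (Q w * polar Q u x) • u := by abel
    rw [e]
    exact Submodule.sub_mem _ (Submodule.sub_mem _ (Submodule.smul_mem _ _ hwp) (Submodule.smul_mem _ _ hup))
      (Submodule.smul_mem _ _ hup)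
  · intro x hx
    have hux : polar Q u x = 0 := (mem_perp' (frmQ Q)).1 hx u hu
    rw [siegel_apply, hux]
    have e : x + (0 : F) • w - polar Q w x • u - (Q w * 0) • u - x = - (polar Q w x • u) := by module
    rw [e]
    exact A.neg_mem (A.smul_mem _ hu)
  · intro x hx
    have hux : polar Q u x = 0 := h.ti.1 u hu x hx
    have hwx : polar Q w x = 0 := (mem_perp (frmQ Q)).1 hwp x hx
    rw [siegel_apply, hux, hwx]
    simp

/-- all Siegel elements at the vectors of `A` -/
theorem full_A {A A' C : Submodule F V} {H : Subgroup (V ≃ₗ[F] V)} (hN : (frmQ Q).Nd)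
    (h : Opp (frmQ Q) A A' C) (hC : C ≠ ⊥) (h1 : E Q ⊓ RadG (frmQ Q) A ≤ H) (h2 : E Q ⊓ RadG (frmQ Q) A' ≤ H)
    {u : V} (hu : u ∈ A) : Full Q H u := by
  obtain ⟨c, hc, hc0⟩ := Submodule.exists_mem_ne_zero_of_ne_bot hC
  obtain ⟨c2, hc2, hcc⟩ := exists_dualC hN h hc hc0
  refine ⟨h.ti.2 u hu, fun w hw => ?_⟩
  obtain ⟨x, hx, x', hx', d, hd, rfl⟩ := dec3 h w
  have hux : polar Q u x = 0 := h.ti.1 u hu x hx
  have hud : polar Q u d = 0 := polar_AC h hu hd
  have hux' : polar Q u x' = 0 := by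
    rw [polar_add_right, polar_add_right, hux, hud, zero_add, add_zero] at hw
    exact hw
  have s1 : Has Q H u x := (has_rad h hu (Submodule.mem_sup_left hx)).mono h1
  have s2 : Has Q H u d := (has_rad h hu (Submodule.mem_sup_right hd)).mono h1
  have s3 : Has Q H x' c := (has_rad (opp_symm h) hx' (Submodule.mem_sup_right hc)).mono h2
  have s4 : Has Q H u c2 := (has_rad h hu (Submodule.mem_sup_right hc2)).mono h1
  have s5 : Has Q H u (-x') := by
    have h3 := s3.comm s4 (by rw [polar_comm]; exact hux') (by rw [polar_comm]; exact polar_AC h hu hc)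
    refine h3.congr rfl ?_
    rw [polar_AC (opp_symm h) hx' hc2, hcc]
    module
  have s6 : Has Q H u x' := by
    have := s5.neg
    rwa [neg_neg] at this
  exact (s1.add s6).add s2

/-- **RG-L19** -/
theorem l19 : L19 := by
  intro F V _ _ _ _ _ Q A A' C hN h hA hC
  apply le_antisymm
  · exact sup_le inf_le_left inf_le_left
  set H := (E Q ⊓ RadG (frmQ Q) A) ⊔ (E Q ⊓ RadG (frmQ Q) A') with hH
  have i1 : E Q ⊓ RadG (frmQ Q) A ≤ H := le_sup_left
  have i2 : E Q ⊓ RadG (frmQ Q) A' ≤ H := le_sup_right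
  have fA : ∀ u ∈ A, Full Q H u := fun u hu => full_A hN h hC i1 i2 hu
  have fA' : ∀ u ∈ A', Full Q H u := fun u hu => full_A hN (opp_symm h) hC i2 i1 hu
  -- the vectors not orthogonal to `A'`
  have g1 : ∀ {A A' : Submodule F V}, Opp (frmQ Q) A A' C → (∀ u ∈ A, Full Q H u) → (∀ u ∈ A', Full Q H u) →
      ∀ v, Q v = 0 → ∀ u ∈ A', polar Q u v ≠ 0 → Full Q H v := by
    intro A A' h fA fA' v hv u hu huv
    have hu0 : u ≠ 0 := by
      rintro rfl
      exact huv (polar_zero_left Q v)
    obtain ⟨a, ha, hua⟩ := exists_dual hN (opp_symm h) hu hu0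
    exact (fA' u hu).opposite (fA a ha) (by rw [hua]; exact one_ne_zero) hv huv
  have g2 : ∀ v, Q v = 0 → Full Q H v := by
    intro v hv
    by_cases c1 : ∃ u ∈ A', polar Q u v ≠ 0
    · obtain ⟨u, hu, huv⟩ := c1
      exact g1 h fA fA' v hv u hu huv
    by_cases c2 : ∃ u ∈ A, polar Q u v ≠ 0
    · obtain ⟨u, hu, huv⟩ := c2
      exact g1 (opp_symm h) fA' fA v hv u hu huv
    push Not at c1 c2
    by_cases hv0 : v = 0
    · subst hv0
      exact ⟨hv, fun w _ => has_zero_left w⟩
    -- `v` lies in `C`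
    obtain ⟨x, hx, x', hx', c, hc, hvd⟩ := dec3 h v
    have hx0 : x = 0 := by
      by_contra hx0
      obtain ⟨b, hb, hxb⟩ := exists_dual hN h hx hx0
      have h3 := c1 b hb
      rw [hvd, polar_add_right, polar_add_right, polar_AC (opp_symm h) hb hc,
        show polar Q b x' = 0 from h.ti'.1 b hb x' hx', polar_comm, hxb, add_zero, add_zero] at h3
      exact one_ne_zero h3
    have hx'0 : x' = 0 := by
      by_contra hx0
      obtain ⟨b, hb, hxb⟩ := exists_dual hN (opp_symm h) hx' hx0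
      have h3 := c2 b hb
      rw [hvd, polar_add_right, polar_add_right, polar_AC h hb hc,
        show polar Q b x = 0 from h.ti.1 b hb x hx, polar_comm, hxb, zero_add, add_zero] at h3
      exact one_ne_zero h3
    rw [hx0, hx'0, zero_add, zero_add] at hvd
    subst hvd
    obtain ⟨w, hw, hvw⟩ := exists_dualC hN h hc hv0
    obtain ⟨a, ha, ha0⟩ := Submodule.exists_mem_ne_zero_of_ne_bot hA
    obtain ⟨a', ha', haa⟩ := exists_dual hN h ha ha0
    -- the singular vector `u = w + a - Q(w) a'`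
    set u : V := w + (a + (-Q w) • a') with hu
    have hQu : Q u = 0 := by
      rw [hu, Q_add, Q_add, QuadraticMap.map_smul, show Q a = 0 from h.ti.2 a ha, show Q a' = 0 from h.ti'.2 a' ha',
        polar_add_right, polar_smul_right, polar_smul_right, haa, polar_comm Q w a, polar_AC h ha hw,
        polar_comm Q w a', polar_AC (opp_symm h) ha' hw]
      simp
    have hau : polar Q a' u = 1 := by
      rw [hu, polar_add_right, polar_add_right, polar_smul_right, polar_AC (opp_symm h) ha' hw,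
        polar_comm Q a' a, haa, show polar Q a' a' = 0 from h.ti'.1 a' ha' a' ha']
      simp
    have fu : Full Q H u := g1 h fA fA' u hQu a' ha' (by rw [hau]; exact one_ne_zero)
    refine fu.opposite (fA' a' ha') ?_ hv ?_
    · rw [polar_comm, hau]; exact one_ne_zero
    · rw [hu, polar_add_left, polar_add_left, polar_smul_left, polar_AC h ha hc, polar_AC (opp_symm h) ha' hc,
        polar_comm Q w v, hvw]
      simp
  rw [E, Subgroup.closure_le]
  rintro _ ⟨u, w, hu, hw, rfl⟩
  exact ((g2 u hu).2 w hw).mem hu hw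

end Cfsg.Agent.H621.RG
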